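import Groth.Agent.Dual3Lib.PushHom
import Groth.Agent.Dual3Lib.BCOpen
import Groth.Agent.CxOXLib.Shriek
import Groth.Agent.CxOXLib.Tensor
import Groth.Agent.DCohRestrLib.RHomRestr
import Groth.Agent.PerfCompLib.ExtZero
import Groth.Agent.DerBCLib.WI

/-!
# Objects local or colocal for an open
-/

set_option autoImplicit false
set_option backward.isDefEq.respectTransparency false
set_option backward.isDefEq.respectTransparency.types false
set_option maxHeartbeats 1000000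
set_option linter.style.haveILetI false

universe u

open CategoryTheory CategoryTheory.Limits AlgebraicGeometry HomologicalComplex
open CategoryTheory.Pretriangulated
open Groth.Agent.DerLib Groth.Agent.PerfDualLib Groth.Agent.ProjFormLib

attribute [local instance] HasDerivedCategory.standard

namespace Groth.Agent.PushSuppLib

section Tri

variable {C : Type*} [Category C] [Preadditive C] [HasZeroObject C] [HasShift C ℤ]
  [∀ n : ℤ, (shiftFunctor C n).Additive] [Pretriangulated C]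

theorem bijective_comp_mor₁ (T : Triangle C) (hT : T ∈ distTriang C) (P : C)
    (h₃ : ∀ φ : P ⟶ T.obj₃, φ = 0) (h₀ : ∀ φ : P ⟶ T.obj₃⟦(-1 : ℤ)⟧, φ = 0) :
    Function.Bijective fun φ : P ⟶ T.obj₁ => φ ≫ T.mor₁ := by
  refine ⟨fun a b h => sub_eq_zero.1 ?_, fun ψ => ?_⟩
  · obtain ⟨z, hz⟩ := Triangle.coyoneda_exact₂ _ (inv_rot_of_distTriang _ hT) (a - b)
      ((Preadditive.sub_comp _ _ _).trans (sub_eq_zero.2 h))
    rw [hz, h₀ z]
    exact zero_comp
  · obtain ⟨φ, hφ⟩ := Triangle.coyoneda_exact₂ _ hT ψ (h₃ _)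
    exact ⟨φ, hφ.symm⟩

theorem bijective_mor₁_comp (T : Triangle C) (hT : T ∈ distTriang C) (B : C)
    (h₃ : ∀ φ : T.obj₃ ⟶ B, φ = 0) (h₀ : ∀ φ : T.obj₃⟦(-1 : ℤ)⟧ ⟶ B, φ = 0) :
    Function.Bijective fun φ : T.obj₂ ⟶ B => T.mor₁ ≫ φ := by
  refine ⟨fun a b h => sub_eq_zero.1 ?_, fun ψ => ?_⟩
  · obtain ⟨z, hz⟩ := Triangle.yoneda_exact₂ _ hT (a - b)
      ((Preadditive.comp_sub _ _ _).trans (sub_eq_zero.2 h))
    rw [hz, h₃ z]
    exact comp_zero
  · obtain ⟨φ, hφ⟩ := Triangle.yoneda_exact₂ _ (inv_rot_of_distTriang _ hT) ψ (h₀ _)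
    exact ⟨φ, hφ.symm⟩

end Tri

variable {X Y : Scheme.{u}}

/-- `P` has no maps to objects vanishing on `V` satisfying `S`. -/
def Coloc (S : DCoh.D X → Prop) (V : X.Opens) (P : DCoh.D X) : Prop :=
  ∀ Z : DCoh.D X, S Z → IsZero ((DCoh.restrictD V.ι).obj Z) → ∀ φ : P ⟶ Z, φ = 0

/-- `B` receives no maps from objects vanishing on `V`. -/
def Loc (V : X.Opens) (B : DCoh.D X) : Prop :=
  ∀ Z : DCoh.D X, IsZero ((DCoh.restrictD V.ι).obj Z) → ∀ φ : Z ⟶ B, φ = 0

theorem isZero_restrictD_shift (V : X.Opens) {Z : DCoh.D X}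
    (h : IsZero ((DCoh.restrictD V.ι).obj Z)) (n : ℤ) : IsZero ((DCoh.restrictD V.ι).obj (Z⟦n⟧)) :=
  ((shiftFunctor _ n).map_isZero h).of_iso (((DCoh.restrictD V.ι).commShiftIso n).app Z)

theorem Coloc.bijective {S : DCoh.D X → Prop} {V : X.Opens} {P : DCoh.D X} (hP : Coloc S V P)
    {B B' : DCoh.D X} (u : B ⟶ B') (hu : IsIso ((DCoh.restrictD V.ι).map u))
    (hS : ∀ (C : DCoh.D X) (g : B' ⟶ C) (d : C ⟶ B⟦(1 : ℤ)⟧), Triangle.mk u g d ∈ distTriang _ →
      S C ∧ S (C⟦(-1 : ℤ)⟧)) :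
    Function.Bijective fun φ : P ⟶ B => φ ≫ u := by
  obtain ⟨C, g, d, hT⟩ := distinguished_cocone_triangle u
  have hC : IsZero ((DCoh.restrictD V.ι).obj C) :=
    (((DCoh.restrictD V.ι).mapTriangle.obj (Triangle.mk u g d)).isZero₃_iff_isIso₁
      ((DCoh.restrictD V.ι).map_distinguished _ hT)).2 hu
  exact bijective_comp_mor₁ _ hT P (hP C (hS C g d hT).1 hC)
    (hP _ (hS C g d hT).2 (isZero_restrictD_shift V hC _))

theorem Loc.bijective {V : X.Opens} {B : DCoh.D X} (hB : Loc V B) {P P' : DCoh.D X} (u : P ⟶ P')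
    (hu : IsIso ((DCoh.restrictD V.ι).map u)) :
    Function.Bijective fun φ : P' ⟶ B => u ≫ φ := by
  obtain ⟨C, g, d, hT⟩ := distinguished_cocone_triangle u
  have hC : IsZero ((DCoh.restrictD V.ι).obj C) :=
    (((DCoh.restrictD V.ι).mapTriangle.obj (Triangle.mk u g d)).isZero₃_iff_isIso₁
      ((DCoh.restrictD V.ι).map_distinguished _ hT)).2 hu
  exact bijective_mor₁_comp _ hT B (hB C hC) (hB _ (isZero_restrictD_shift V hC _))

theorem loc_rpush (V : X.Opens) [DCoh.HasRpush V.ι] (E : DCoh.D (V : Scheme.{u})) :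
    Loc V ((DCoh.Rpush V.ι).obj E) := fun _ hZ _ =>
  ((KoszOrthLib.restrictRpushAdj V.ι).homEquiv _ _).symm.injective (hZ.eq_of_src _ _)

theorem Loc.of_iso {V : X.Opens} {B B' : DCoh.D X} (e : B ≅ B') (h : Loc V B) : Loc V B' :=
  fun Z hZ φ => (cancel_mono e.inv).1 ((h Z hZ _).trans zero_comp.symm)

/-- Isomorphisms are recognised on a pair of local objects. -/
theorem isIso_restrictD_of_loc (V : X.Opens) {P P' : DCoh.D X} (u : P ⟶ P')
    (h : ∀ B : DCoh.D X, Loc V B → Function.Bijective fun φ : P' ⟶ B => u ≫ φ) :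
    IsIso ((DCoh.restrictD V.ι).map u) := by
  haveI := DCohRestrLib.hasRpush V.ι
  let adj := KoszOrthLib.restrictRpushAdj V.ι
  have hb : ∀ E : DCoh.D (V : Scheme.{u}),
      Function.Bijective fun x : (DCoh.restrictD V.ι).obj P' ⟶ E => (DCoh.restrictD V.ι).map u ≫ x := by
    intro E
    have h' : (fun x : (DCoh.restrictD V.ι).obj P' ⟶ E => (DCoh.restrictD V.ι).map u ≫ x) =
        (adj.homEquiv P E).symm ∘ (fun φ => u ≫ φ) ∘ (adj.homEquiv P' E) := funext fun x => by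
      simp [Adjunction.homEquiv_naturality_left_symm]
    rw [h']
    exact (Equiv.bijective _).comp ((h _ (loc_rpush V E)).comp (Equiv.bijective _))
  obtain ⟨v, hv⟩ := (hb _).2 (𝟙 _)
  exact ⟨v, hv, (hb _).1 (show _ ≫ _ ≫ _ = _ ≫ _ by rw [reassoc_of% hv, Category.comp_id])⟩

theorem isZero_restrictD_rpush (f : X ⟶ Y) [DCoh.HasRpush f] (V : Y.Opens) {Z : DCoh.D X}
    (hZ : IsZero ((DCoh.restrictD (f ⁻¹ᵁ V).ι).obj Z)) :
    IsZero ((DCoh.restrictD V.ι).obj ((DCoh.Rpush f).obj Z)) := by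
  haveI := DCohRestrLib.hasRpush (f ∣_ V)
  obtain ⟨r⟩ := DCohRestrLib.nonempty_restrictD_Rpush f V
  exact (DCohRestrLib.isZero_Rpush (f ∣_ V) hZ).of_iso (r.app Z)

theorem isZero_restrictD_lpull (f : X ⟶ Y) [DCoh.HasLpull f] (V : Y.Opens) {K : DCoh.D Y}
    (hK : IsZero ((DCoh.restrictD V.ι).obj K)) :
    IsZero ((DCoh.restrictD (f ⁻¹ᵁ V).ι).obj ((DCoh.Lpull f).obj K)) := by
  haveI := DCohRestrLib.hasRpush f
  rw [IsZero.iff_id_eq_zero]
  haveI := DCohRestrLib.hasRpush (f ⁻¹ᵁ V).ι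
  refine ((KoszOrthLib.restrictRpushAdj (f ⁻¹ᵁ V).ι).homEquiv _ _).injective ?_
  refine ((KFlatLib.lpullRpushAdj f).homEquiv _ _).injective ?_
  exact (CxOXLib.orth_Rpush_push f V _ _ ((CxOXLib.isSuppD_iff _ _).2 hK) _).trans
    (CxOXLib.orth_Rpush_push f V _ _ ((CxOXLib.isSuppD_iff _ _).2 hK) _).symm

theorem isZero_restrictD_rSheafHom (K : Cx X) [DCoh.HasLTensorCx K] [DCoh.HasRSheafHom K] (V : X.Opens)
    {Z : DCoh.D X} (hZ : IsZero ((DCoh.restrictD V.ι).obj Z)) :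
    IsZero ((DCoh.restrictD V.ι).obj ((DCoh.RSheafHom K).obj Z)) := by
  haveI := KFlatLib.hasLTensorCx ((DCohRestrLib.resCx V).obj K)
  haveI := BidualSchLib.hasRSheafHom ((DCohRestrLib.resCx V).obj K)
  obtain ⟨e⟩ := DCohRestrLib.nonempty_restrict_RSheafHom V K
  haveI : (DCoh.RSheafHom ((DCohRestrLib.resCx V).obj K)).PreservesZeroMorphisms :=
    haveI := (DCoh.RSheafHomAdj ((DCohRestrLib.resCx V).obj K)).isRightAdjoint
    Functor.preservesZeroMorphisms_of_isRightAdjoint _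
  exact ((DCoh.RSheafHom _).map_isZero hZ).of_iso (e.app Z)

theorem isZero_lTensor_of_isZero {K : Cx X} [DCoh.HasLTensorCx K]
    (hK : IsZero (DerivedCategory.Q.obj K)) (N : DCoh.D X) :
    IsZero ((DCoh.LTensorCx K).obj N) := by
  obtain ⟨O, hO⟩ : ∃ O : Cx X, IsZero O := HasZeroObject.zero
  haveI := KFlatLib.hasLTensorCx O
  obtain ⟨t⟩ := nonempty_lTensor_congr_iso (M := K) (N := O)
    (hK.iso (DerivedCategory.Q.map_isZero hO))
  let F := (KFlatLib.resP X).obj (DerivedCategory.Q.objPreimage N)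
  haveI := KFlatLib.quasiIso_resψ (X := X) (DerivedCategory.Q.objPreimage N)
  let e : DerivedCategory.Q.obj F ≅ N :=
    asIso (DerivedCategory.Q.map ((KFlatLib.resψ X).app (DerivedCategory.Q.objPreimage N))) ≪≫
      DerivedCategory.Q.objObjPreimageIso N
  haveI := TensorAssocLib.isIso_cnt_of_kFlat O F (KFlatLib.good_resP _).1
  refine IsZero.of_iso ?_ (t.app N ≪≫ (DCoh.LTensorCx O).mapIso e.symm ≪≫
    asIso ((TensorAssocLib.cnt O).app F))
  refine DerivedCategory.Q.map_isZero ((IsZero.iff_id_eq_zero _).2 ?_)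
  refine HomologicalComplex.hom_ext _ _ fun j => HomologicalComplex.mapBifunctor.hom_ext fun p q hpq => ?_
  exact (((DCoh.tensorBi (X := X)).obj (F.X p)).map_isZero
    ((HomologicalComplex.eval X.Modules (ComplexShape.up ℤ) q).map_isZero hO)).eq_of_src _ _

theorem isSuppD_lTensor_right (V : X.Opens) (K : Cx X) [DCoh.HasLTensorCx K]
    (hK : CxOX.IsSuppD V.ι (DerivedCategory.Q.obj K)) (N : DCoh.D X) :
    CxOX.IsSuppD V.ι ((DCoh.LTensorCx K).obj N) := by
  haveI := KFlatLib.hasLTensorCx ((DCohRestrLib.resCx V).obj K)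
  obtain ⟨e⟩ := DCohRestrLib.nonempty_restrict_LTensor V K
  rw [CxOXLib.isSuppD_iff]
  refine IsZero.of_iso (isZero_lTensor_of_isZero ?_ _) (e.app N).symm
  exact ((CxOXLib.isSuppD_iff _ _).1 hK).of_iso
    ((Scheme.Modules.restrictFunctor V.ι).mapDerivedCategoryFactors.app K).symm

/-- `freeU V` in every degree is colocal for `V`. -/
theorem coloc_sf (V : X.Opens) (n : ℤ) :
    Coloc (fun _ => True) V (DerivedCategory.Q.obj (sf V n)) := by
  intro Z _ hZ φ
  obtain ⟨J, hJ, ⟨eJ⟩⟩ := KInjUse.exists_iso_Q_kInjective Z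
  haveI := hJ
  obtain ⟨a, ha⟩ := KInjUse.Q_map_surjective (sf V n) J (φ ≫ eJ.hom)
  have hV : AcyOn V J := fun x hx i => by
    have hz : CxOX.IsSuppD V.ι (DerivedCategory.Q.obj J) :=
      CxOXLib.isSuppD_of_iso V.ι eJ ((CxOXLib.isSuppD_iff _ _).2 hZ)
    haveI : Subsingleton ((DerSch.stalkFunctor X x).obj
        ((DerivedCategory.Q ⋙ DerivedCategory.homologyFunctor X.Modules i).obj J)) := by
      refine not_not.1 fun h => ?_
      exact hz i h (by rw [Scheme.Opens.range_ι]; exact hx)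
    exact IsZero.of_iso (ModuleCat.isZero_of_subsingleton _)
      (KFlatLib.stalkHomologyIso _ x i ≪≫ (DerSch.stalkFunctor X x).mapIso
        ((DerivedCategory.homologyFunctorFactors X.Modules i).app J).symm)
  obtain ⟨H⟩ := DerBCLib.nonempty_homotopy_sf (DerBCLib.wi_of_isKInjective J) hV n a
  rw [← cancel_mono eJ.hom, zero_comp, ← ha]
  have := HomotopyCategory.eq_of_homotopy _ _ H
  rw [Functor.map_zero] at this
  rw [← cancel_mono ((DerivedCategory.quotientCompQhIso X.Modules).inv.app J), zero_comp]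
  refine ((DerivedCategory.quotientCompQhIso X.Modules).inv.naturality a).trans ?_
  rw [Functor.comp_map, this, Functor.map_zero, comp_zero]

theorem isZero_sec_of_null (W : Cx X) (V : X.Opens)
    (h : ∀ (n : ℤ) (a : sf V n ⟶ W), Nonempty (Homotopy a 0)) (i : ℤ) :
    IsZero (((DerBCLib.secC V (RingHom.id Γ(X, V))).obj W).homology i) := by
  refine (exactAt_iff_isZero_homology _ _).1 ?_
  rw [exactAt_iff' _ (i - 1) i (i + 1) (by simp) (by simp), ShortComplex.moduleCat_exact_iff]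
  intro z hz
  let s : Γ(W.X i, V) := z
  let a : sf V i ⟶ W := mkHomFromSingle (KFlatLib.secMap s) (fun j hj => by
    obtain rfl : j = i + 1 := hj.symm
    rw [KFlatLib.secMap_comp, show (W.d i (i + 1)).app V s = 0 from hz, KFlatLib.secMap_zero])
  obtain ⟨H⟩ := h i a
  let w : KFlatLib.freeU V ⟶ W.X (i - 1) :=
    (singleObjXSelf (ComplexShape.up ℤ) i _).inv ≫ H.hom i (i - 1)
  have hw : w ≫ W.d (i - 1) i = KFlatLib.secMap s := by
    have hc := H.comm i
    rw [dNext_eq H.hom (show (ComplexShape.up ℤ).Rel i (i + 1) from rfl),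
      prevD_eq H.hom (show (ComplexShape.up ℤ).Rel (i - 1) i by simp)] at hc
    simp only [single_obj_d, zero_comp, zero_add, zero_f, add_zero] at hc
    simp only [w, Category.assoc]
    rw [← hc]
    simp [a]
  refine ⟨KFlatLib.freeUEquiv V _ w, ?_⟩
  change (W.d (i - 1) i).app V (KFlatLib.freeUEquiv V _ w) = z
  rw [← KFlatLib.freeUEquiv_comp, hw, KFlatLib.secMap, Equiv.apply_symm_apply]

/-- A map is invertible when maps from all shifted `freeU V`, `V` affine, see it as invertible. -/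
theorem isIso_of_sf {C D : DCoh.D X} (ξ : C ⟶ D)
    (h : ∀ V : X.Opens, IsAffineOpen V → ∀ n : ℤ,
      Function.Bijective fun x : DerivedCategory.Q.obj (sf V n) ⟶ C => x ≫ ξ) : IsIso ξ := by
  obtain ⟨Z, g, d, hT⟩ := distinguished_cocone_triangle ξ
  refine ((Triangle.mk ξ g d).isZero₃_iff_isIso₁ hT).1 ?_
  show IsZero Z
  have hd : ∀ (V : X.Opens), IsAffineOpen V → ∀ (n : ℤ) (φ : DerivedCategory.Q.obj (sf V n) ⟶ Z), φ = 0 := by
    intro V hV n φ
    let es : (DerivedCategory.Q.obj (sf V (n + 1)))⟦(1 : ℤ)⟧ ≅ DerivedCategory.Q.obj (sf V n) :=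
      ((DerivedCategory.Q.commShiftIso (1 : ℤ)).app _).symm ≪≫ DerivedCategory.Q.mapIso
        (((CochainComplex.singleFunctors X.Modules).shiftIso (1 : ℤ) n (n + 1) (by omega)).app _)
    obtain ⟨y, hy⟩ := (shiftFunctor (DCoh.D X) (1 : ℤ)).map_surjective (es.hom ≫ φ ≫ d)
    have hy0 : y = 0 := by
      apply (h V hV (n + 1)).1
      change y ≫ ξ = 0 ≫ ξ
      rw [zero_comp]
      apply (shiftFunctor (DCoh.D X) (1 : ℤ)).map_injective
      rw [Functor.map_zero, Functor.map_comp, hy, Category.assoc, Category.assoc,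
        show d ≫ ξ⟦(1 : ℤ)⟧' = 0 from comp_distTriang_mor_zero₃₁ _ hT, comp_zero, comp_zero]
    have hφd : φ ≫ d = 0 := by
      rw [hy0, Functor.map_zero] at hy
      rw [← cancel_epi es.hom, comp_zero]
      exact hy.symm
    obtain ⟨ψ, hψ⟩ := Triangle.coyoneda_exact₃ _ hT φ hφd
    obtain ⟨x, hx⟩ := (h V hV n).2 ψ
    rw [hψ, show ψ = x ≫ ξ from hx.symm]
    exact (Category.assoc _ _ _).trans ((congrArg (x ≫ ·) (comp_distTriang_mor_zero₁₂ _ hT)).trans comp_zero)
  obtain ⟨J, hJ, ⟨eJ⟩⟩ := KInjUse.exists_iso_Q_kInjective Z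
  haveI := hJ
  have hnull : ∀ (V : X.Opens), IsAffineOpen V → ∀ (n : ℤ) (a : sf V n ⟶ J), Nonempty (Homotopy a 0) := by
    intro V hV n a
    have h0 : DerivedCategory.Q.map a = 0 := by
      rw [← cancel_mono eJ.inv, zero_comp]
      exact hd V hV n _
    refine ⟨HomotopyCategory.homotopyOfEq _ _ ?_⟩
    rw [Functor.map_zero]
    apply (CochainComplex.IsKInjective.Qh_map_bijective _ J).1
    rw [Functor.map_zero, ← cancel_mono ((DerivedCategory.quotientCompQhIso X.Modules).hom.app J), zero_comp]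
    refine ((DerivedCategory.quotientCompQhIso X.Modules).hom.naturality a).trans ?_
    rw [h0, comp_zero]
  have hac : ∀ i : ℤ, IsZero (J.homology i) := (KFlatLib.acyclic_iff_stalks J).2 fun x i => by
    refine DerBCLib.isZero_stalk_of_basis J (fun p N hp => ?_) x i
    obtain ⟨V, hV, hpV, hVN⟩ := TopologicalSpace.Opens.isBasis_iff_nbhd.mp X.isBasis_affineOpens hp
    exact ⟨V, hpV, hVN, isZero_sec_of_null J V (hnull V hV)⟩
  refine IsZero.of_iso ?_ eJ
  rw [DCohRestrLib.isZero_iff_HD]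
  exact fun i => (hac i).of_iso ((DerivedCategory.homologyFunctorFactors X.Modules i).app J)

end Groth.Agent.PushSuppLib
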