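import Groth.Agent.PushSuppLib.Basic

/-!
# Maps into the right adjoint from colocal objects
-/

set_option autoImplicit false
set_option backward.isDefEq.respectTransparency false
set_option backward.isDefEq.respectTransparency.types false
set_option maxHeartbeats 1000000
set_option linter.style.haveILetI false

universe u

open CategoryTheory CategoryTheory.Limits AlgebraicGeometry
open CategoryTheory.Pretriangulated

attribute [local instance] HasDerivedCategory.standard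

namespace Groth.Agent.PushSuppLib

open Dual3Lib

variable {X Y : Scheme.{u}} [IsNoetherian Y] (f : X ⟶ Y) [IsProper f] [DCoh.HasRpush f]
  (hf : DCoh.RpushPreservesQCoh f) (a : DCoh.DQCoh Y ⥤ DCoh.DQCoh X) (adj : DCoh.RpushQ f hf ⊣ a)

theorem bijective_counit (Q : DCoh.DQCoh Y) (T : DCoh.D X) (hT : DCoh.IsQCohD T) :
    Function.Bijective fun g : T ⟶ (a.obj Q).obj => (DCoh.Rpush f).map g ≫ (adj.counit.app Q).hom := by
  have h : (fun g : T ⟶ (a.obj Q).obj => (DCoh.Rpush f).map g ≫ (adj.counit.app Q).hom) =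
      fun g => ((adj.homEquiv ⟨T, hT⟩ Q).symm (ObjectProperty.homMk g)).hom := funext fun g => by
    rw [Adjunction.homEquiv_counit]
    rfl
  rw [h]
  let e₁ : (T ⟶ (a.obj Q).obj) ≃ ((⟨T, hT⟩ : DCoh.DQCoh X) ⟶ a.obj Q) :=
    ⟨fun g => ObjectProperty.homMk g, fun g => g.hom, fun _ => rfl, fun _ => rfl⟩
  let e₂ : ((DCoh.RpushQ f hf).obj ⟨T, hT⟩ ⟶ Q) ≃ ((DCoh.Rpush f).obj T ⟶ Q.obj) :=
    ⟨fun g => g.hom, fun g => ObjectProperty.homMk g, fun _ => rfl, fun _ => rfl⟩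
  exact ((e₁.trans (adj.homEquiv ⟨T, hT⟩ Q).symm).trans e₂).bijective

theorem bijective_chain (Q : DCoh.DQCoh Y) (c : ℤ) [Q.obj.IsGE c] (V : Y.Opens)
    {P P₁ : DCoh.D X} (π : P ⟶ P₁) (hP₁ : DCoh.IsQCohD P₁)
    (hP : Coloc (fun Z => DCoh.IsQCohD Z) (f ⁻¹ᵁ V) P)
    (hπ : IsIso ((DCoh.restrictD (f ⁻¹ᵁ V).ι).map π))
    {T : DCoh.D Y} (σ : T ⟶ (DCoh.Rpush f).obj P) (hT : Coloc (fun _ => True) V T)
    (hσ : IsIso ((DCoh.restrictD V.ι).map (σ ≫ (DCoh.Rpush f).map π))) :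
    Function.Bijective fun y : P ⟶ (a.obj Q).obj =>
      σ ≫ (DCoh.Rpush f).map y ≫ (adj.counit.app Q).hom := by
  haveI : IsLocallyNoetherian X := LocallyOfFiniteType.isLocallyNoetherian f
  haveI : CompactSpace X := QuasiCompact.compactSpace_of_compactSpace f
  haveI : IsNoetherian X := ⟨⟩
  let W := f ⁻¹ᵁ V
  haveI : CompactSpace (V : Scheme.{u}) :=
    isCompact_iff_compactSpace.mp (TopologicalSpace.NoetherianSpace.isCompact _)
  haveI : CompactSpace (W : Scheme.{u}) :=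
    isCompact_iff_compactSpace.mp (TopologicalSpace.NoetherianSpace.isCompact _)
  haveI : QuasiCompact V.ι := quasiCompact_of_compactSpace _
  haveI : QuasiCompact W.ι := quasiCompact_of_compactSpace _
  haveI := DCohRestrLib.hasRpush V.ι
  haveI := DCohRestrLib.hasRpush W.ι
  let rV := DCoh.restrictD V.ι
  let rW := DCoh.restrictD W.ι
  let adjV := KoszOrthLib.restrictRpushAdj V.ι
  let adjW := KoszOrthLib.restrictRpushAdj W.ι
  haveI := DCohRestrLib.hasRpush (f ∣_ V)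
  obtain ⟨r⟩ := DCohRestrLib.nonempty_restrictD_Rpush f V
  obtain ⟨_, _⟩ := QRlimLib.exists_isTriangulated_rpush f
  haveI : (DCoh.RpushQ f hf).IsTriangulated :=
    ObjectProperty.isTriangulated_lift _ ((DCoh.IsQCohD (X := X)).ι ⋙ DCoh.Rpush f) _
  letI := adj.rightAdjointCommShift ℤ
  haveI := adj.commShift_of_leftAdjoint ℤ
  haveI : a.IsTriangulated := adj.isTriangulated_rightAdjoint
  let Q₁ : DCoh.DQCoh Y := ⟨(DCoh.Rpush V.ι).obj (rV.obj Q.obj),
    QRlimLib.isQCohD_rpush V.ι (KoszOrthLib.isQCohD_restrictD V.ι Q.property)⟩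
  let η : Q ⟶ Q₁ := ObjectProperty.homMk (adjV.unit.app Q.obj)
  haveI h1 : IsIso (rV.map η.hom) := KoszOrthLib.isIso_restrictD_unit V.ι adjV Q.obj
  haveI hge₁ : Q₁.obj.IsGE c := by
    haveI : (rV.obj Q.obj).IsGE c := (DerivedCategory.isGE_iff _ c).2 fun i hi =>
      ((Scheme.Modules.restrictFunctor V.ι).map_isZero (DerivedCategory.isZero_of_isGE Q.obj c i hi)).of_iso
        (DCohRestrLib.restrictHDIso V.ι Q.obj i)
    exact QRlimLib.rpush_isGE V.ι _ c
  obtain ⟨C, g, d, hC⟩ := distinguished_cocone_triangle η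
  haveI hQ' : DerivedCategory.TStructure.t.IsGE Q.obj c := ‹_›
  haveI hQ₁' : DerivedCategory.TStructure.t.IsGE Q₁.obj c := hge₁
  haveI hQs : DerivedCategory.TStructure.t.IsGE (Q.obj⟦(1 : ℤ)⟧) (c - 1) :=
    DerivedCategory.TStructure.t.isGE_shift Q.obj c 1 (c - 1) (by omega)
  haveI : C.obj.IsGE (c - 1) :=
    @Triangulated.TStructure.isGE₂ _ _ _ _ _ _ _ DerivedCategory.TStructure.t _
      (rot_of_distTriang _ ((DCoh.IsQCohD (X := Y)).ι.map_distinguished _ hC)) (c - 1)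
      (@Triangulated.TStructure.isGE_of_ge _ _ _ _ _ _ _ DerivedCategory.TStructure.t Q₁.obj (c - 1) c (by omega) hQ₁')
      hQs
  have hCV : IsZero (rV.obj C.obj) :=
    ((rV.mapTriangle.obj ((DCoh.IsQCohD (X := Y)).ι.mapTriangle.obj (Triangle.mk η g d))).isZero₃_iff_isIso₁
      (rV.map_distinguished _ ((DCoh.IsQCohD (X := Y)).ι.map_distinguished _ hC))).2 h1
  have haC : IsZero (rW.obj (a.obj C).obj) := (isZero_restrictD_iff_restrict _ _).2
    (isZero_restrict_rightAdjoint f hf a adj C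
      (rHomQCoh_of_pseudoCoherent f C (c - 1) fun G hG m => isPC_rpush_of_isPerfect f hG m) V
      ((isZero_restrictD_iff_restrict _ _).1 hCV))
  haveI hη : IsIso (rW.map (a.map η).hom) :=
    ((rW.mapTriangle.obj ((DCoh.IsQCohD (X := X)).ι.mapTriangle.obj (a.mapTriangle.obj (Triangle.mk η g d)))).isZero₃_iff_isIso₁
      (rW.map_distinguished _ ((DCoh.IsQCohD (X := X)).ι.map_distinguished _
        (a.map_distinguished _ hC)))).1 haC
  let E₁ := (a.obj Q₁).obj
  have horth : ∀ (P : DCoh.D X), DCoh.IsQCohD P → IsZero (rW.obj P) → ∀ φ : P ⟶ E₁, φ = 0 := by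
    intro P hP hPW φ
    have hz : IsZero (rV.obj ((DCoh.Rpush f).obj P)) :=
      (DCohRestrLib.isZero_Rpush (f ∣_ V) hPW).of_iso (r.app P)
    let P' : DCoh.DQCoh X := ⟨P, hP⟩
    have h0 : ((adj.homEquiv P' Q₁).symm (ObjectProperty.homMk φ)).hom = 0 :=
      (adjV.homEquiv _ _).symm.injective (hz.eq_of_src _ _)
    have h2 : (adj.homEquiv P' Q₁).symm (ObjectProperty.homMk φ) = (adj.homEquiv P' Q₁).symm 0 :=
      (ObjectProperty.hom_ext _ h0).trans (by
        haveI : (DCoh.RpushQ f hf).Additive := inferInstance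
        exact (adj.homAddEquiv P' Q₁).symm.map_zero.symm)
    exact congrArg (fun z : P' ⟶ a.obj Q₁ => z.hom) ((adj.homEquiv P' Q₁).symm.injective h2)
  haveI hu : IsIso (adjW.unit.app E₁) := by
    obtain ⟨L, ι, d', hL⟩ := distinguished_cocone_triangle₁ (adjW.unit.app E₁)
    have hLW : IsZero (rW.obj L) :=
      ((rW.mapTriangle.obj (Triangle.mk ι (adjW.unit.app E₁) d')).isZero₁_iff_isIso₂
        (rW.map_distinguished _ hL)).2 (KoszOrthLib.isIso_restrictD_unit W.ι adjW E₁)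
    have hLq : DCoh.IsQCohD L := KFlatLib.isQCohD₂ (inv_rot_of_distTriang _ hL)
      (KFlatLib.isQCohD_shift (QRlimLib.isQCohD_rpush W.ι
        (KoszOrthLib.isQCohD_restrictD W.ι (a.obj Q₁).property)) (-1)) (a.obj Q₁).property
    refine isIso_of_rightOrth ι _ d' hL (horth L hLq hLW) fun φ => ?_
    exact (adjW.homEquiv _ _).symm.injective
      ((((shiftFunctor _ (1 : ℤ)).map_isZero hLW).of_iso ((rW.commShiftIso (1 : ℤ)).app L)).eq_of_src _ _)
  have hloc : Loc W E₁ := (loc_rpush W (rW.obj E₁)).of_iso (asIso (adjW.unit.app E₁)).symm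
  have m1 : Function.Bijective fun y : P ⟶ (a.obj Q).obj => y ≫ (a.map η).hom :=
    hP.bijective _ hη fun C' g' d' hT' => by
      have hq : DCoh.IsQCohD C' := KFlatLib.isQCohD₂ (rot_of_distTriang _ hT') (a.obj Q₁).property
        (KFlatLib.isQCohD_shift (a.obj Q).property 1)
      exact ⟨hq, KFlatLib.isQCohD_shift hq (-1)⟩
  have m2 : Function.Bijective fun z : P₁ ⟶ E₁ => π ≫ z := hloc.bijective π hπ
  have m3 : Function.Bijective fun z : P₁ ⟶ E₁ =>
      (DCoh.Rpush f).map z ≫ (adj.counit.app Q₁).hom := bijective_counit f hf a adj Q₁ P₁ hP₁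
  have m4 : Function.Bijective fun w : (DCoh.Rpush f).obj P₁ ⟶ Q₁.obj => (σ ≫ (DCoh.Rpush f).map π) ≫ w :=
    (loc_rpush V (rV.obj Q.obj)).bijective _ hσ
  have m5 : Function.Bijective fun w : T ⟶ Q.obj => w ≫ η.hom :=
    hT.bijective _ h1 fun _ _ _ _ => ⟨trivial, trivial⟩
  let F : (P ⟶ (a.obj Q).obj) → (T ⟶ Q.obj) := fun y =>
    σ ≫ (DCoh.Rpush f).map y ≫ (adj.counit.app Q).hom
  have key : ∀ (y : P ⟶ (a.obj Q).obj) (z : P₁ ⟶ E₁), π ≫ z = y ≫ (a.map η).hom →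
      F y ≫ η.hom = (σ ≫ (DCoh.Rpush f).map π) ≫ (DCoh.Rpush f).map z ≫ (adj.counit.app Q₁).hom := by
    intro y z hz
    have hn : (DCoh.Rpush f).map (a.map η).hom ≫ (adj.counit.app Q₁).hom =
        (adj.counit.app Q).hom ≫ η.hom :=
      congrArg (fun z : (DCoh.RpushQ f hf).obj (a.obj Q) ⟶ Q₁ => z.hom) (adj.counit.naturality η)
    simp only [F, Category.assoc]
    rw [← Functor.map_comp_assoc (DCoh.Rpush f) π z, hz, Functor.map_comp, Category.assoc, hn]
  refine ⟨fun y y' h => m1.1 ?_, fun w => ?_⟩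
  · obtain ⟨z, hz⟩ := m2.2 (y ≫ (a.map η).hom)
    obtain ⟨z', hz'⟩ := m2.2 (y' ≫ (a.map η).hom)
    have : z = z' := m3.1 (m4.1 ((key y z hz).symm.trans
      ((congrArg (· ≫ η.hom) h).trans (key y' z' hz'))))
    exact hz.symm.trans ((congrArg (π ≫ ·) this).trans hz')
  · obtain ⟨t, ht⟩ := m4.2 (w ≫ η.hom)
    obtain ⟨z, hz⟩ := m3.2 t
    obtain ⟨y, hy⟩ := m1.2 (π ≫ z)
    exact ⟨y, m5.1 ((key y z hy.symm).trans ((congrArg (_ ≫ ·) hz).trans ht))⟩

end Groth.Agent.PushSuppLib
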