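import Groth.Agent.PushSuppLib.Chain
import Groth.Agent.InjModLib.Crit
import Groth.Agent.KFlatLib.PerfectPull
import Groth.Agent.KFlatLib.QCohLpull
import Groth.Agent.DerLib.KInjDerived

/-!
# Sheafified duality with supports
-/

set_option autoImplicit false
set_option backward.isDefEq.respectTransparency false
set_option backward.isDefEq.respectTransparency.types false
set_option maxHeartbeats 2000000
set_option linter.style.haveILetI false

universe u

open CategoryTheory CategoryTheory.Limits AlgebraicGeometry HomologicalComplex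
open CategoryTheory.Pretriangulated
open Groth.Agent.DerLib Groth.Agent.PerfDualLib Groth.Agent.ProjFormLib Groth.Agent.Dual3Lib

attribute [local instance] HasDerivedCategory.standard

namespace Groth.Agent.PushSuppLib

variable {X Y : Scheme.{u}}

theorem hasRgammaZ (W : X.Opens) : CxOX.HasRgammaZ W.ι :=
  DerLib.KInjDerived.hasRightDerivedFunctor (CxOX.gammaZKh W.ι) KFlatLib.enoughKInj_modules

/-- Tensoring with a supported complex and pulling back is colocal. -/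
theorem coloc_lTensor_lpull (f : X ⟶ Y) [DCoh.HasRpush f] [DCoh.HasLpull f] (I : Cx X)
    [DCoh.HasLTensorCx I] [DCoh.HasRSheafHom I] (V : Y.Opens) {P : DCoh.D Y}
    (hP : Coloc (fun _ => True) V P) :
    Coloc (fun _ => True) (f ⁻¹ᵁ V) ((DCoh.LTensorCx I).obj ((DCoh.Lpull f).obj P)) := by
  intro Z _ hZ φ
  have h := hP _ trivial (isZero_restrictD_rpush f V (isZero_restrictD_rSheafHom I (f ⁻¹ᵁ V) hZ))
  refine ((DCoh.RSheafHomAdj I).homEquiv _ _).injective (((KFlatLib.lpullRpushAdj f).homEquiv _ _).injective ?_)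
  exact (h _).trans (h _).symm

theorem coloc_lTensor (A : Cx Y) [DCoh.HasLTensorCx A] [DCoh.HasRSheafHom A] (V : Y.Opens)
    {P : DCoh.D Y} (hP : Coloc (fun _ => True) V P) :
    Coloc (fun _ => True) V ((DCoh.LTensorCx A).obj P) := by
  intro Z _ hZ φ
  have h := hP _ trivial (isZero_restrictD_rSheafHom A V hZ)
  exact ((DCoh.RSheafHomAdj A).homEquiv _ _).injective ((h _).trans (h _).symm)

theorem Coloc.of_iso {S : DCoh.D X → Prop} {V : X.Opens} {P P' : DCoh.D X} (e : P ≅ P')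
    (h : Coloc S V P) : Coloc S V P' :=
  fun Z hS hZ φ => (cancel_epi e.hom).1 ((h Z hS hZ _).trans comp_zero.symm)

theorem isIso_restrictD_lTensor (A : Cx Y) [DCoh.HasLTensorCx A] [DCoh.HasRSheafHom A] (V : Y.Opens)
    {P P' : DCoh.D Y} (u : P ⟶ P') (hu : IsIso ((DCoh.restrictD V.ι).map u)) :
    IsIso ((DCoh.restrictD V.ι).map ((DCoh.LTensorCx A).map u)) := by
  refine isIso_restrictD_of_loc V _ fun B hB => ?_
  haveI := hasRgammaZ V
  let adj := DCoh.RSheafHomAdj A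
  have hloc : Loc V ((DCoh.RSheafHom A).obj B) := fun Z hZ φ => by
    have h := hB _ ((CxOXLib.isSuppD_iff _ _).1
      (CxOXLib.isSuppD_lTensor V A ((CxOXLib.isSuppD_iff _ _).2 hZ)))
    exact (adj.homEquiv _ _).symm.injective ((h _).trans (h _).symm)
  have h' : (fun φ : (DCoh.LTensorCx A).obj P' ⟶ B => (DCoh.LTensorCx A).map u ≫ φ) =
      (adj.homEquiv P B).symm ∘ (fun φ => u ≫ φ) ∘ (adj.homEquiv P' B) := funext fun x => by
    simp [Adjunction.homEquiv_naturality_left_symm]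
  rw [h']
  exact (Equiv.bijective _).comp ((hloc.bijective u hu).comp (Equiv.bijective _))

theorem isIso_restrictD_lTensor_lpull (f : X ⟶ Y) [DCoh.HasRpush f] [DCoh.HasLpull f] (I : Cx X)
    [DCoh.HasLTensorCx I] [DCoh.HasRSheafHom I] (V : Y.Opens)
    {P P' : DCoh.D Y} (u : P ⟶ P') (hu : IsIso ((DCoh.restrictD V.ι).map u)) :
    IsIso ((DCoh.restrictD (f ⁻¹ᵁ V).ι).map ((DCoh.LTensorCx I).map ((DCoh.Lpull f).map u))) := by
  refine isIso_restrictD_of_loc (f ⁻¹ᵁ V) _ fun B hB => ?_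
  haveI := hasRgammaZ (f ⁻¹ᵁ V)
  let adj := (KFlatLib.lpullRpushAdj f).comp (DCoh.RSheafHomAdj I)
  have hloc : Loc V ((DCoh.RSheafHom I ⋙ DCoh.Rpush f).obj B) := fun Z hZ φ => by
    have h := hB _ ((CxOXLib.isSuppD_iff _ _).1
      (CxOXLib.isSuppD_lTensor (f ⁻¹ᵁ V) I ((CxOXLib.isSuppD_iff _ _).2 (isZero_restrictD_lpull f V hZ))))
    exact (adj.homEquiv _ _).symm.injective ((h _).trans (h _).symm)
  have h' : (fun φ : (DCoh.LTensorCx I).obj ((DCoh.Lpull f).obj P') ⟶ B =>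
        (DCoh.LTensorCx I).map ((DCoh.Lpull f).map u) ≫ φ) =
      (adj.homEquiv P B).symm ∘ (fun φ => u ≫ φ) ∘ (adj.homEquiv P' B) := funext fun x => by
    refine Eq.trans ?_ (adj.homEquiv_naturality_left_symm u _).symm
    exact congrArg (_ ≫ ·) ((adj.homEquiv _ _).symm_apply_apply x).symm
  rw [h']
  exact (Equiv.bijective _).comp ((hloc.bijective u hu).comp (Equiv.bijective _))

/-- Conjugating a map invertible on `V` by isomorphisms. -/
theorem isIso_restrictD_congr (V : X.Opens) {P P' R R' : DCoh.D X} (a : P ≅ R) (b : P' ≅ R')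
    {u : P ⟶ P'} {v : R ⟶ R'} (h : u ≫ b.hom = a.hom ≫ v) (hu : IsIso ((DCoh.restrictD V.ι).map u)) :
    IsIso ((DCoh.restrictD V.ι).map v) := by
  rw [show v = a.inv ≫ u ≫ b.hom by rw [h, Iso.inv_hom_id_assoc], Functor.map_comp, Functor.map_comp]
  infer_instance

/-- From `freeU V` to `freeU ⊤` in a degree. -/
theorem exists_toTop (V : Y.Opens) (n : ℤ) : ∃ m : sf V n ⟶ sf (⊤ : Y.Opens) n,
    IsIso ((DCoh.restrictD V.ι).map (DerivedCategory.Q.map m)) ∧
      DCoh.IsQCohD (DerivedCategory.Q.obj (sf (⊤ : Y.Opens) n)) := by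
  let r : KFlatLib.freeU V ⟶ KFlatLib.freeU (⊤ : Y.Opens) := KFlatLib.resU le_top
  refine ⟨(single Y.Modules (ComplexShape.up ℤ) n).map r, ?_, fun i => ?_⟩
  · let R := Scheme.Modules.restrictFunctor V.ι
    haveI : IsIso (R.map r) := PerfCompLib.isIso_restrict_of_stalks V.ι r fun x =>
      InjModLib.isIso_stalk_resU le_top x.2
    haveI : IsIso ((R.mapHomologicalComplex (ComplexShape.up ℤ)).map
        ((single Y.Modules (ComplexShape.up ℤ) n).map r)) := by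
      haveI : ∀ k, IsIso (((R.mapHomologicalComplex (ComplexShape.up ℤ)).map
          ((single Y.Modules (ComplexShape.up ℤ) n).map r)).f k) := fun k => by
        by_cases hk : k = n
        · subst hk
          rw [Functor.mapHomologicalComplex_map_f, single_map_f_self, Functor.map_comp, Functor.map_comp]
          infer_instance
        · have hz := fun M : Y.Modules => R.map_isZero (isZero_single_obj_X (ComplexShape.up ℤ) n M k hk)
          exact (hz _).isIso (hz _) _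
      exact HomologicalComplex.Hom.isIso_of_components _
    exact (NatIso.isIso_map_iff R.mapDerivedCategoryFactors _).2
      (inferInstanceAs (IsIso (DerivedCategory.Q.map ((R.mapHomologicalComplex (ComplexShape.up ℤ)).map
        ((single Y.Modules (ComplexShape.up ℤ) n).map r)))))
  · haveI : Coh.IsQCoh (Coh.structureModule Y) := QCohLib.isQCoh_unit
    refine @QCohLib.isQCoh_of_iso _ _ _ ((DerivedCategory.homologyFunctorFactors Y.Modules i).app _).symm
      (KFlatLib.isQCoh_homology_of_terms _ (fun k => ?_) i)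
    by_cases hk : k = n
    · subst hk
      exact @QCohLib.isQCoh_of_iso _ _ _ ((KFlatLib.structureIso Y).symm ≪≫
        (singleObjXSelf (ComplexShape.up ℤ) k (KFlatLib.freeU (⊤ : Y.Opens))).symm) inferInstance
    · exact QCohLib.isQCoh_of_isZero (isZero_single_obj_X (ComplexShape.up ℤ) n _ k hk)

variable {Xb : Scheme.{u}} [IsNoetherian Y] (j : X ⟶ Xb) [IsOpenImmersion j] (fb : Xb ⟶ Y) [IsProper fb]
  [DCoh.HasRpush fb] [DCoh.HasRpush j] (hfb : DCoh.RpushPreservesQCoh fb)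
  (a : DCoh.DQCoh Y ⥤ DCoh.DQCoh Xb) (adj : DCoh.RpushQ fb hfb ⊣ a)

include adj in
/-- `Rf_* RHom(E, RΓ f^! G) ≅ RHom(Rf_* E, G)`. -/
theorem nonempty_iso (W : Xb.Opens) (hW : (W : Set Xb)ᶜ ⊆ Set.range j.base)
    [CxOX.HasRgammaZ (j ⁻¹ᵁ W).ι] (G : DCoh.DQCoh Y) (c : ℤ) [G.obj.IsGE c]
    (I : Cx X) [I.IsKInjective] [DCoh.HasLTensorCx I] [DCoh.HasRSheafHom I]
    (hIq : DCoh.IsQCohD (DerivedCategory.Q.obj I)) (hIZ : CxOX.IsSuppD (j ⁻¹ᵁ W).ι (DerivedCategory.Q.obj I))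
    (A : Cx Y) [DCoh.HasLTensorCx A] [DCoh.HasRSheafHom A] [DCoh.HasRpush (j ≫ fb)]
    (ψ : A ⟶ (pushC (j ≫ fb)).obj I) [QuasiIso ψ] (hA : DCoh.IsKFlat A) :
    Nonempty ((DCoh.Rpush fb).obj ((DCoh.Rpush j).obj ((DCoh.RSheafHom I).obj
        ((CxOX.RgammaZ (j ⁻¹ᵁ W).ι).obj ((DCoh.restrictD j).obj (a.obj G).obj)))) ≅
      (DCoh.RSheafHom A).obj G.obj) := by
  haveI : IsLocallyNoetherian Xb := LocallyOfFiniteType.isLocallyNoetherian fb
  haveI : CompactSpace Xb := QuasiCompact.compactSpace_of_compactSpace fb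
  haveI : IsNoetherian Xb := ⟨⟩
  haveI : IsLocallyNoetherian X := isLocallyNoetherian_of_isOpenImmersion j
  haveI : CompactSpace X := by
    haveI : CompactSpace (j.opensRange : Scheme.{u}) := isCompact_iff_compactSpace.mp
      (TopologicalSpace.NoetherianSpace.isCompact (j.opensRange : Set Xb))
    exact (Scheme.homeoOfIso j.isoOpensRange).symm.compactSpace
  haveI : IsNoetherian X := ⟨⟩
  haveI : QuasiCompact j := quasiCompact_of_compactSpace j
  haveI : QuasiCompact W.ι := by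
    haveI : CompactSpace (W : Scheme.{u}) :=
      isCompact_iff_compactSpace.mp (TopologicalSpace.NoetherianSpace.isCompact (W : Set Xb))
    exact quasiCompact_of_compactSpace _
  haveI := hasRgammaZ W
  haveI := KFlatLib.hasLpull (j ≫ fb)
  haveI := KFlatLib.hasLpull j
  haveI := KFlatLib.hasLpull fb
  let f := j ≫ fb
  obtain ⟨ef⟩ := KFlatLib.rpush_comp j fb
  let adjj := KoszOrthLib.restrictRpushAdj j
  let A₀ := (a.obj G).obj
  let M := (CxOX.RgammaZ (j ⁻¹ᵁ W).ι).obj ((DCoh.restrictD j).obj A₀)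
  haveI hηΓ : ∀ Z : DCoh.D Xb, IsIso (adjj.unit.app ((CxOX.RgammaZ W.ι).obj Z)) :=
    fun Z => CxOXLib.isIso_unit_RgammaZ j adjj W hW Z
  have hθ : ∀ Z : DCoh.D Xb, DCoh.IsQCohD Z →
      ∃ θ : (CxOX.RgammaZ (j ⁻¹ᵁ W).ι).obj ((DCoh.restrictD j).obj Z) ⟶
        (DCoh.restrictD j).obj ((CxOX.RgammaZ W.ι).obj Z),
        θ ≫ (DCoh.restrictD j).map ((CxOX.RgammaZToId W.ι).app Z) =
          (CxOX.RgammaZToId (j ⁻¹ᵁ W).ι).app ((DCoh.restrictD j).obj Z) := by
    intro Z hZ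
    let v := Adjunction.leftAdjointUniq (KFlatLib.lpullRpushAdj j) adjj
    obtain ⟨⟨b₀, hb₀⟩, hiso⟩ := CxOXLib.RgammaZ_Lpull_factors j W Z hZ
    haveI := hiso b₀ hb₀
    let b := v.inv.app ((CxOX.RgammaZ W.ι).obj Z) ≫ b₀ ≫ (CxOX.RgammaZ (j ⁻¹ᵁ W).ι).map (v.hom.app Z)
    haveI : IsIso b := by dsimp only [b]; infer_instance
    refine ⟨inv b, (IsIso.inv_comp_eq b).2 ?_⟩
    simp only [b, Category.assoc]
    erw [(CxOX.RgammaZToId (j ⁻¹ᵁ W).ι).naturality (v.hom.app Z)]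
    erw [reassoc_of% hb₀]
    refine Eq.symm ((congrArg (v.inv.app ((CxOX.RgammaZ W.ι).obj Z) ≫ ·)
      (v.hom.naturality ((CxOX.RgammaZToId W.ι).app Z))).trans ?_)
    exact Iso.inv_hom_id_app_assoc v _ _
  obtain ⟨θ, hθA⟩ := hθ A₀ (a.obj G).property
  let Φ : ∀ {T : DCoh.D X}, (T ⟶ M) → ((DCoh.Rpush j).obj T ⟶ A₀) := fun x =>
    (DCoh.Rpush j).map (x ≫ θ) ≫ inv (adjj.unit.app ((CxOX.RgammaZ W.ι).obj A₀)) ≫
      (CxOX.RgammaZToId W.ι).app A₀
  have hΦ : ∀ {T T' : DCoh.D X} (m : T' ⟶ T) (x : T ⟶ M), Φ (m ≫ x) = (DCoh.Rpush j).map m ≫ Φ x := by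
    intro T T' m x
    simp only [Φ, Category.assoc, Functor.map_comp]
  let Wᵢ := (DCoh.RSheafHom I).obj M
  let C := (DCoh.Rpush fb).obj ((DCoh.Rpush j).obj Wᵢ)
  let D := (DCoh.RSheafHom A).obj G.obj
  let κ := (adj.counit.app G).hom
  obtain ⟨γX, hγX⟩ := exists_gamma I
  obtain ⟨γY, hγY⟩ := exists_gamma A
  let adjf := KFlatLib.lpullRpushAdj f
  let Gi : ∀ (F : Cx Y), DCoh.IsKFlat F →
      ((DCoh.LTensorCx I).obj ((DCoh.Lpull f).obj (DerivedCategory.Q.obj F)) ≅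
        DerivedCategory.Q.obj ((Gen.tL (Tb X) I).obj ((pullC f).obj F))) := fun F hF =>
    (DCoh.LTensorCx I).mapIso (KFlatLib.lpullObjIso f F hF) ≪≫ γX _ (KFlatLib.isKFlat_pull f hF)
  have hG : ∀ (F F' : Cx Y) (hF : DCoh.IsKFlat F) (hF' : DCoh.IsKFlat F') (μ : F' ⟶ F),
      (Gi F' hF').inv ≫ (DCoh.LTensorCx I).map ((DCoh.Lpull f).map (DerivedCategory.Q.map μ)) =
        DerivedCategory.Q.map ((Gen.tL (Tb X) I).map ((pullC f).map μ)) ≫ (Gi F hF).inv := by
    intro F F' hF hF' μ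
    rw [Iso.inv_comp_eq, ← Category.assoc, Iso.eq_comp_inv]
    simp only [Gi, Iso.trans_hom, Functor.mapIso_hom, Category.assoc]
    rw [← Functor.map_comp_assoc, LpullTildeLib.lpullObjIso_natural f hF' hF μ, Functor.map_comp,
      Category.assoc]
    exact congrArg (_ ≫ ·) (hγX _ _ (KFlatLib.isKFlat_pull f hF') (KFlatLib.isKFlat_pull f hF) _)
  let toT : ∀ (F : Cx Y), DCoh.IsKFlat F → (DerivedCategory.Q.obj F ⟶ C) →
      (DerivedCategory.Q.obj ((Gen.tL (Tb X) I).obj ((pullC f).obj F)) ⟶ M) := fun F hF x =>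
    (Gi F hF).inv ≫ ((DCoh.RSheafHomAdj I).homEquiv _ _).symm
      ((adjf.homEquiv _ _).symm (x ≫ ef.hom.app Wᵢ))
  let σ : ∀ (F : Cx Y), DerivedCategory.Q.obj ((Gen.tL (Tb Y) A).obj F) ⟶
      (DCoh.Rpush fb).obj ((DCoh.Rpush j).obj
        (DerivedCategory.Q.obj ((Gen.tL (Tb X) I).obj ((pullC f).obj F)))) := fun F =>
    beta f ψ F ≫ ef.inv.app _
  have hσn : ∀ (F F' : Cx Y) (μ : F' ⟶ F),
      DerivedCategory.Q.map ((Gen.tL (Tb Y) A).map μ) ≫ σ F = σ F' ≫ (DCoh.Rpush fb).map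
        ((DCoh.Rpush j).map (DerivedCategory.Q.map ((Gen.tL (Tb X) I).map ((pullC f).map μ)))) := by
    intro F F' μ
    simp only [σ]
    rw [← Category.assoc, beta_natural f ψ μ, Category.assoc, Category.assoc]
    exact congrArg (_ ≫ ·) (ef.inv.naturality _)
  let Θ : ∀ (F : Cx Y), DCoh.IsKFlat F → (DerivedCategory.Q.obj F ⟶ C) →
      (DerivedCategory.Q.obj F ⟶ D) := fun F hF x =>
    (DCoh.RSheafHomAdj A).homEquiv _ _
      ((γY F hF).hom ≫ σ F ≫ (DCoh.Rpush fb).map (Φ (toT F hF x)) ≫ κ)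
  have hnat : ∀ (F F' : Cx Y) (hF : DCoh.IsKFlat F) (hF' : DCoh.IsKFlat F') (μ : F' ⟶ F)
      (x : DerivedCategory.Q.obj F ⟶ C),
      Θ F' hF' (DerivedCategory.Q.map μ ≫ x) = DerivedCategory.Q.map μ ≫ Θ F hF x := by
    intro F F' hF hF' μ x
    have h1 : toT F' hF' (DerivedCategory.Q.map μ ≫ x) =
        DerivedCategory.Q.map ((Gen.tL (Tb X) I).map ((pullC f).map μ)) ≫ toT F hF x := by
      simp only [toT]
      rw [Category.assoc, Adjunction.homEquiv_naturality_left_symm, Adjunction.homEquiv_naturality_left_symm,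
        ← Category.assoc, hG F F' hF hF' μ, Category.assoc]
    simp only [Θ]
    rw [← Adjunction.homEquiv_naturality_left, h1, hΦ, Functor.map_comp]
    have hσ' := reassoc_of% hσn F F' μ
    simp only [σ, Category.assoc] at hσ' ⊢
    rw [← hσ']
    exact congrArg _ ((reassoc_of% hγY F' F hF' hF μ) _).symm
  have hbij : ∀ (V : Y.Opens) (F F₂ : Cx Y) (hF : DCoh.IsKFlat F) (hF₂ : DCoh.IsKFlat F₂) (μ : F ⟶ F₂),
      Coloc (fun _ => True) V (DerivedCategory.Q.obj F) → DCoh.IsQCohD (DerivedCategory.Q.obj F₂) →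
      IsIso ((DCoh.restrictD V.ι).map (DerivedCategory.Q.map μ)) → Function.Bijective (Θ F hF) := by
    intro V F F₂ hF hF₂ μ hFc hF₂q hμ
    haveI := isIso_beta_of_qcoh f ψ hA hIq F₂ hF₂ hF₂q
    let M₁ := DerivedCategory.Q.obj ((Gen.tL (Tb X) I).obj ((pullC f).obj F))
    have hM₁c : Coloc (fun _ => True) (f ⁻¹ᵁ V) M₁ :=
      (coloc_lTensor_lpull f I V hFc).of_iso (Gi F hF)
    have hM₁Z : CxOX.IsSuppD (j ⁻¹ᵁ W).ι M₁ :=
      CxOXLib.isSuppD_of_iso _ (Gi F hF) (isSuppD_lTensor_right _ I hIZ _)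
    have hM₂q : DCoh.IsQCohD (DerivedCategory.Q.obj ((Gen.tL (Tb X) I).obj ((pullC f).obj F₂))) :=
      KFlatLib.isQCohD_iso (Gi F₂ hF₂) (KFlatLib.isQCohD_lTensorCx I hIq _ (KFlatLib.isQCohD_lpull f _ hF₂q))
    haveI : (DCoh.Rpush j).Additive := adjj.right_adjoint_additive
    have hP : Coloc (fun Z => DCoh.IsQCohD Z) (fb ⁻¹ᵁ V) ((DCoh.Rpush j).obj M₁) := by
      intro Z hZq hZ φ
      obtain ⟨θZ, hθZ⟩ := hθ Z hZq
      obtain ⟨w, hw⟩ := (CxOXLib.bijective_comparison j adjj W Z hZq θZ hθZ M₁ hM₁Z).2 φ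
      have hjZ : IsZero ((DCoh.restrictD (f ⁻¹ᵁ V).ι).obj ((DCoh.restrictD j).obj Z)) :=
        (CxOXLib.isSuppD_iff _ _).1 (CxOXLib.isSuppD_restrictD j (k := (fb ⁻¹ᵁ V).ι)
          (fun x hx => by
            rw [Scheme.Opens.range_ι] at hx ⊢
            exact hx) ((CxOXLib.isSuppD_iff _ _).2 hZ))
      have hw0 : w = 0 :=
        (CxOXLib.existsUnique_toId (j ⁻¹ᵁ W) _ _ hM₁Z 0).unique
          (hM₁c _ trivial hjZ _) zero_comp
      rw [← hw, hw0]
      simp only [zero_comp, Functor.map_zero]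
    let π := DerivedCategory.Q.map ((Gen.tL (Tb X) I).map ((pullC f).map μ))
    have hπ₀ : IsIso ((DCoh.restrictD (f ⁻¹ᵁ V).ι).map π) :=
      isIso_restrictD_congr (f ⁻¹ᵁ V) (Gi F hF) (Gi F₂ hF₂)
        ((Iso.inv_comp_eq _).1 (by
          rw [← Category.assoc, hG F₂ F hF₂ hF μ, Category.assoc, Iso.inv_hom_id, Category.comp_id]))
        (isIso_restrictD_lTensor_lpull f I V _ hμ)
    have hπ : IsIso ((DCoh.restrictD (fb ⁻¹ᵁ V).ι).map ((DCoh.Rpush j).map π)) := by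
      haveI := DCohRestrLib.hasRpush (j ∣_ (fb ⁻¹ᵁ V))
      obtain ⟨r⟩ := DCohRestrLib.nonempty_restrictD_Rpush j (fb ⁻¹ᵁ V)
      haveI : IsIso ((DCoh.restrictD (j ⁻¹ᵁ (fb ⁻¹ᵁ V)).ι).map π) := hπ₀
      exact (NatIso.isIso_map_iff r π).2
        (Functor.map_isIso (DCoh.Rpush (j ∣_ (fb ⁻¹ᵁ V))) ((DCoh.restrictD (j ⁻¹ᵁ (fb ⁻¹ᵁ V)).ι).map π))
    have hTY : IsIso ((DCoh.restrictD V.ι).map (DerivedCategory.Q.map ((Gen.tL (Tb Y) A).map μ))) :=
      isIso_restrictD_congr V (γY F hF) (γY F₂ hF₂) (hγY F F₂ hF hF₂ μ)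
        (isIso_restrictD_lTensor A V _ hμ)
    have hσ : IsIso ((DCoh.restrictD V.ι).map (σ F ≫ (DCoh.Rpush fb).map ((DCoh.Rpush j).map π))) := by
      rw [← hσn F₂ F μ, Functor.map_comp]
      haveI := hTY
      haveI : IsIso (σ F₂) := IsIso.comp_isIso' inferInstance inferInstance
      infer_instance
    have hT : Coloc (fun _ => True) V (DerivedCategory.Q.obj ((Gen.tL (Tb Y) A).obj F)) :=
      (coloc_lTensor A V hFc).of_iso (γY F hF)
    have h5 : Function.Bijective fun y : (DCoh.Rpush j).obj M₁ ⟶ A₀ =>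
        σ F ≫ (DCoh.Rpush fb).map y ≫ κ :=
      bijective_chain fb hfb a adj G c V ((DCoh.Rpush j).map π) (QRlimLib.isQCohD_rpush j hM₂q) hP hπ
        (σ F) hT hσ
    refine ((DCoh.RSheafHomAdj A).homEquiv _ _).bijective.comp
      ((bijective_iso_comp (γY F hF) _).comp (h5.comp
        ((CxOXLib.bijective_comparison j adjj W A₀ (a.obj G).property θ hθA M₁ hM₁Z).comp
          ((bijective_iso_comp (Gi F hF).symm _).comp
            (((DCoh.RSheafHomAdj I).homEquiv _ _).symm.bijective.comp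
              ((adjf.homEquiv _ _).symm.bijective.comp (Iso.homToEquiv (ef.app Wᵢ)).bijective))))))
  obtain ⟨J, hJ, ⟨eJ⟩⟩ := KInjUse.exists_iso_Q_kInjective C
  haveI := hJ
  let F₀ := (KFlatLib.resP Y).obj J
  have hF₀ : DCoh.IsKFlat F₀ := (KFlatLib.good_resP J).1
  haveI := KFlatLib.quasiIso_resψ (X := Y) J
  let j₀ : DerivedCategory.Q.obj F₀ ≅ C :=
    asIso (DerivedCategory.Q.map ((KFlatLib.resψ Y).app J)) ≪≫ eJ.symm
  let ξ : C ⟶ D := j₀.inv ≫ Θ F₀ hF₀ j₀.hom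
  haveI : IsIso ξ := by
    refine isIso_of_sf ξ fun V _ n => ?_
    obtain ⟨m, hm, hq⟩ := exists_toTop V n
    let F₁ := (KFlatLib.resP Y).obj (sf V n)
    let F₂ := (KFlatLib.resP Y).obj (sf (⊤ : Y.Opens) n)
    haveI := KFlatLib.quasiIso_resψ (X := Y) (sf V n)
    haveI := KFlatLib.quasiIso_resψ (X := Y) (sf (⊤ : Y.Opens) n)
    let j₁ : DerivedCategory.Q.obj F₁ ≅ DerivedCategory.Q.obj (sf V n) :=
      asIso (DerivedCategory.Q.map ((KFlatLib.resψ Y).app (sf V n)))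
    let j₂ : DerivedCategory.Q.obj F₂ ≅ DerivedCategory.Q.obj (sf (⊤ : Y.Opens) n) :=
      asIso (DerivedCategory.Q.map ((KFlatLib.resψ Y).app (sf (⊤ : Y.Opens) n)))
    refine (bijective_map_of_iso j₁ ξ).2 ?_
    have hb := hbij V F₁ F₂ (KFlatLib.good_resP _).1 (KFlatLib.good_resP _).1 ((KFlatLib.resP Y).map m)
      ((coloc_sf V n).of_iso j₁.symm) (KFlatLib.isQCohD_iso j₂.symm hq) (by
        refine isIso_restrictD_congr V j₁.symm j₂.symm ?_ hm
        simp only [Iso.symm_hom, Iso.eq_inv_comp]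
        rw [← Category.assoc, Iso.comp_inv_eq]
        exact ((DerivedCategory.Q.map_comp _ _).symm.trans
          ((congrArg DerivedCategory.Q.map ((KFlatLib.resψ Y).naturality m)).trans
            (DerivedCategory.Q.map_comp _ _))).symm)
    convert hb using 1
    funext x
    obtain ⟨m', hm'⟩ := KInjUse.Q_map_surjective (sf V n) J (j₁.inv ≫ x ≫ eJ.hom)
    let μ : F₁ ⟶ F₀ := (KFlatLib.resP Y).map m'
    have hμ : DerivedCategory.Q.map μ ≫ j₀.hom = x := by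
      have hn := congrArg DerivedCategory.Q.map ((KFlatLib.resψ Y).naturality m')
      rw [Functor.map_comp, Functor.map_comp] at hn
      simp only [j₀, Iso.trans_hom, Iso.symm_hom, asIso_hom]
      rw [← Category.assoc, Iso.comp_inv_eq]
      refine hn.trans ((congrArg (j₁.hom ≫ ·) hm').trans ?_)
      exact Iso.hom_inv_id_assoc _ _
    change x ≫ ξ = Θ F₁ _ x
    rw [← hμ, hnat F₀ F₁ hF₀ _ μ, Category.assoc]
    exact congrArg (_ ≫ ·) (Iso.hom_inv_id_assoc _ _)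
  exact ⟨asIso ξ⟩

/-- Internal homs out of isomorphic complexes are isomorphic. -/
theorem nonempty_rSheafHom_congr_iso {M N : Cx X} (e : DerivedCategory.Q.obj M ≅ DerivedCategory.Q.obj N)
    [DCoh.HasLTensorCx M] [DCoh.HasLTensorCx N] [DCoh.HasRSheafHom M] [DCoh.HasRSheafHom N] :
    Nonempty (DCoh.RSheafHom M ≅ DCoh.RSheafHom N) := by
  obtain ⟨t⟩ := nonempty_lTensor_congr_iso e
  exact ⟨((DCoh.RSheafHomAdj M).ofNatIsoLeft t).rightAdjointUniq (DCoh.RSheafHomAdj N)⟩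

end Groth.Agent.PushSuppLib
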